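import Mathlib

set_option autoImplicit false

namespace Groth.Agent.Lib.Helper1.SkewStd

open Matrix

variable {T : Type*} [CommRing T]

/-- the standard alternating matrix -/
def Jstd : Matrix (Fin 2) (Fin 2) T := !![0, 1; -1, 0]

/-- Generic lemma: a `2 × 2` skew-hermitian matrix with `h 0 1`, `det h`, `2` invertible and a
`λ`-fixed root `ν` of the quadratic `γ ν² - (2 + β) ν + α/4` is congruent to the standard
alternating matrix. -/
theorem exists_congr_std (L : T →+* T) (hL : ∀ x, L (L x) = x)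
    (h : Matrix (Fin 2) (Fin 2) T) (herm : -(h.map L)ᵀ = h)
    (i2 bi Di ν : T) (h2 : 2 * i2 = 1) (hb : h 0 1 * bi = 1) (hD : h.det * Di = 1)
    (hν : L ν = ν)
    (hq : (h 1 1 * bi * L bi) * (h 1 1 * bi * L bi) * ν * ν
      - (2 + h 0 0 * (h 1 1 * bi * L bi)) * ν + h 0 0 * h 0 0 * i2 * i2 = 0) :
    ∃ v : Matrix (Fin 2) (Fin 2) T, (v.map L)ᵀ * h * v = Jstd := by
  -- basic relations
  have hent : ∀ i j, h i j = - L (h j i) := by
    intro i j
    have := congrFun (congrFun herm i) j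
    simp only [Matrix.neg_apply, Matrix.transpose_apply, Matrix.map_apply] at this
    exact this.symm
  obtain ⟨a, ha⟩ : ∃ a, a = h 0 0 := ⟨_, rfl⟩
  obtain ⟨b, hb'⟩ : ∃ b, b = h 0 1 := ⟨_, rfl⟩
  obtain ⟨d, hd⟩ : ∃ d, d = h 1 1 := ⟨_, rfl⟩
  obtain ⟨bL, hbL⟩ : ∃ bL, bL = L b := ⟨_, rfl⟩
  obtain ⟨biL, hbiL⟩ : ∃ biL, biL = L bi := ⟨_, rfl⟩
  rw [← ha, ← hd, ← hbiL] at hq
  rw [← hb'] at hb
  have hLa : L a = -a := by have := hent 0 0; rw [← ha] at this; linear_combination this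
  have hLd : L d = -d := by have := hent 1 1; rw [← hd] at this; linear_combination this
  have hcb : h 1 0 = - bL := by rw [hbL, hb']; exact hent 1 0
  have hLbL : L bL = b := by rw [hbL, hL]
  have hLbiL : L biL = bi := by rw [hbiL, hL]
  have hLi2 : L i2 = i2 := by
    have h1 : 2 * L i2 = 1 := by
      have := congrArg L h2
      rw [map_mul, map_one, map_ofNat] at this
      exact this
    linear_combination i2 * h1 - L i2 * h2
  have hLb : bL * biL = 1 := by rw [hbL, hbiL, ← map_mul, hb, map_one]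
  have hdet : h.det = a * d + b * bL := by rw [Matrix.det_fin_two, ← ha, ← hb', ← hd, hcb]; ring
  rw [hdet] at hD
  have hLDi : L Di = Di := by
    have h1 : (a * d + b * bL) * L Di = 1 := by
      have := congrArg L hD
      rw [map_mul, map_one, map_add, map_mul, map_mul, hLa, hLd, hLbL, ← hbL] at this
      linear_combination this
    linear_combination Di * h1 - L Di * hD
  obtain ⟨d', hd'⟩ : ∃ d', d' = d * bi * biL := ⟨_, rfl⟩
  rw [← hd'] at hq
  have hLd' : L d' = -d' := by rw [hd', map_mul, map_mul, hLd, hLbiL, ← hbiL]; ring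
  obtain ⟨z, hz⟩ : ∃ z, z = -i2 * a + ν * d' := ⟨_, rfl⟩
  have hLz : L z = -z := by rw [hz, map_add, map_mul, map_mul, map_neg, hLi2, hLa, hν, hLd']; ring
  obtain ⟨ξ, hξ⟩ : ∃ ξ, ξ = bi * z := ⟨_, rfl⟩
  have hLξ : L ξ = -(biL * z) := by rw [hξ, map_mul, hLz, ← hbiL]; ring
  -- isotropy of x = (1, ξ)
  have hE00 : a + b * ξ + (-(biL * z)) * (-bL) + (-(biL * z)) * d * ξ = 0 := by
    have e1 : a + b * ξ + (-(biL * z)) * (-bL) + (-(biL * z)) * d * ξ = a + 2 * z - z * z * d' := by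
      rw [hξ, hd']
      linear_combination z * hb + z * hLb
    rw [e1, hz]
    linear_combination (-d') * hq + (-a + d' * d' * a * ν) * h2
  obtain ⟨w, hw⟩ : ∃ w, w = b + (-(biL * z)) * d := ⟨_, rfl⟩
  have hLw : L w = bL - ξ * d := by
    rw [hw, map_add, map_mul, map_neg, map_mul, hLz, hLbiL, hLd, ← hbL, hξ]; ring
  have hwLw : w * (bL - ξ * d) = a * d + b * bL := by
    rw [hw]
    linear_combination (-d) * hE00
  obtain ⟨κ, hκ⟩ : ∃ κ, κ = i2 * d * Di := ⟨_, rfl⟩
  have hLκ : L κ = -κ := by rw [hκ, map_mul, map_mul, hLi2, hLd, hLDi]; ring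
  have hwwi : w * ((bL - ξ * d) * Di) = 1 := by
    linear_combination Di * hwLw + hD
  refine ⟨!![1, κ; ξ, (bL - ξ * d) * Di + κ * ξ], ?_⟩
  have hvL : (!![1, κ; ξ, (bL - ξ * d) * Di + κ * ξ] : Matrix (Fin 2) (Fin 2) T).map L
      = !![1, -κ; -(biL * z), w * Di + κ * (biL * z)] := by
    ext i j
    fin_cases i <;> fin_cases j
    · simp
    · simp [hLκ]
    · simp [hLξ]
    · simp only [Matrix.map_apply, Matrix.of_apply, Matrix.cons_val', Matrix.cons_val_one,
        Fin.mk_one, Fin.isValue, Matrix.cons_val_fin_one]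
      rw [map_add, map_mul, map_mul, ← hLw, hL, hLDi, hLκ, hLξ]
      ring
  have hh : h = !![a, b; -bL, d] := by
    ext i j
    fin_cases i <;> fin_cases j
    · simp [ha]
    · simp [hb']
    · simp [hcb]
    · simp [hd]
  rw [hvL, hh]
  unfold Jstd
  ext i j
  fin_cases i <;> fin_cases j
  · simp [Matrix.mul_apply, Fin.sum_univ_two]
    linear_combination hE00
  · simp [Matrix.mul_apply, Fin.sum_univ_two]
    linear_combination κ * hE00 + hwwi - Di * (bL - ξ * d) * hw
  · simp [Matrix.mul_apply, Fin.sum_univ_two]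
    linear_combination (-κ) * hE00 - Di * hwLw - hD
  · simp [Matrix.mul_apply, Fin.sum_univ_two]
    rw [hκ]
    linear_combination (d * Di * Di - (i2 * d * Di) * Di) * hwLw + (d * Di - (i2 * d * Di)) * hD - (i2 * d * Di) * hwwi - (i2 * d * Di) * (i2 * d * Di) * hE00 - d * Di * h2 + i2 * d * Di * Di * (bL - ξ * d) * hw

end Groth.Agent.Lib.Helper1.SkewStd
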