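import Mathlib
import Groth.Agent.Lib.Helper1.SkewStd.Generic

set_option autoImplicit false

namespace Groth.Agent.Lib.Helper1.SkewStd

open Matrix TensorProduct

universe u v

variable {B : Type u} {A : Type v} [CommRing B] [CommRing A] [Algebra B A]

/-- the extended involution on `Lc ⊗ A` as a ring hom -/
noncomputable def extLam (lam : A ≃ₐ[B] A) (Lc : Type*) [CommRing Lc] [Algebra B Lc] :
    Lc ⊗[B] A →+* Lc ⊗[B] A :=
  ((Algebra.TensorProduct.congr (AlgEquiv.refl : Lc ≃ₐ[Lc] Lc) lam : Lc ⊗[B] A ≃ₐ[Lc] Lc ⊗[B] A) :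
    Lc ⊗[B] A →+* Lc ⊗[B] A)

theorem extLam_tmul (lam : A ≃ₐ[B] A) (Lc : Type*) [CommRing Lc] [Algebra B Lc] (l : Lc) (a : A) :
    extLam lam Lc (l ⊗ₜ a) = l ⊗ₜ lam a := by
  simp [extLam]

theorem extLam_extLam (lam : A ≃ₐ[B] A) (hlam : ∀ a, lam (lam a) = a) (Lc : Type*) [CommRing Lc]
    [Algebra B Lc] (x : Lc ⊗[B] A) : extLam lam Lc (extLam lam Lc x) = x := by
  induction x using TensorProduct.induction_on with
  | zero => simp
  | tmul l a => rw [extLam_tmul, extLam_tmul, hlam]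
  | add x y hx hy => rw [map_add, map_add, hx, hy]

theorem tmul_algebraMap_eq (Lc : Type*) [CommRing Lc] [Algebra B Lc] (x : B) :
    (1 : Lc) ⊗ₜ[B] (algebraMap B A x) = (algebraMap B Lc x) ⊗ₜ[B] (1 : A) := by
  rw [Algebra.algebraMap_eq_smul_one, Algebra.algebraMap_eq_smul_one, TensorProduct.smul_tmul]

theorem step_C (lam : A ≃ₐ[B] A) (hlam : ∀ a, lam (lam a) = a)
    (Lc : Type u) [CommRing Lc] [Algebra B Lc]
    (h : Matrix (Fin 2) (Fin 2) A) (herm : -(h.map lam)ᵀ = h)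
    (i2 bi Di : A) (h2 : 2 * i2 = 1) (hb : h 0 1 * bi = 1) (hD : h.det * Di = 1)
    (αB βB γB i2B : B) (hα : algebraMap B A αB = h 0 0 * h 0 0)
    (hβ : algebraMap B A βB = h 0 0 * (h 1 1 * bi * lam bi))
    (hγ : algebraMap B A γB = (h 1 1 * bi * lam bi) * (h 1 1 * bi * lam bi))
    (hi2 : algebraMap B A i2B = i2)
    (ν : Lc)
    (hν : algebraMap B Lc γB * ν * ν - (2 + algebraMap B Lc βB) * ν
      + algebraMap B Lc αB * algebraMap B Lc i2B * algebraMap B Lc i2B = 0) :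
    ∃ v : Matrix (Fin 2) (Fin 2) (Lc ⊗[B] A), IsUnit v ∧
      (v.map (Algebra.TensorProduct.congr (AlgEquiv.refl : Lc ≃ₐ[Lc] Lc) lam))ᵀ *
        h.map (Algebra.TensorProduct.includeRight : A →ₐ[B] Lc ⊗[B] A) * v
        = (Matrix.of ![![(0 : A), 1], ![-1, 0]]).map
          (Algebra.TensorProduct.includeRight : A →ₐ[B] Lc ⊗[B] A) := by
  set ι : A →ₐ[B] Lc ⊗[B] A := Algebra.TensorProduct.includeRight with hι
  have hιL : ∀ a : A, extLam lam Lc (ι a) = ι (lam a) := fun a => by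
    simp [hι, extLam_tmul]
  have hermT : -((h.map ι).map (extLam lam Lc))ᵀ = h.map ι := by
    ext i j
    have := congrFun (congrFun herm i) j
    simp only [Matrix.neg_apply, Matrix.transpose_apply, Matrix.map_apply] at this ⊢
    rw [hιL, ← map_neg, this]
  have hdetT : (h.map ι).det = ι h.det := by
    rw [Matrix.det_fin_two, Matrix.det_fin_two]
    simp
  obtain ⟨v, hv⟩ := exists_congr_std (extLam lam Lc) (extLam_extLam lam hlam Lc) (h.map ι) hermT
    (ι i2) (ι bi) (ι Di) (ν ⊗ₜ 1)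
    (by rw [← map_ofNat ι 2, ← map_mul, h2, map_one])
    (by rw [Matrix.map_apply, ← map_mul, hb, map_one])
    (by rw [hdetT, ← map_mul, hD, map_one])
    (by rw [extLam_tmul, map_one])
    (by
      simp only [Matrix.map_apply]
      rw [hιL]
      have e1 : ι (h 1 1) * ι bi * ι (lam bi) * (ι (h 1 1) * ι bi * ι (lam bi)) =
          (algebraMap B Lc γB) ⊗ₜ[B] (1 : A) := by
        rw [← tmul_algebraMap_eq, hγ]
        simp [hι]
      have e2 : ι (h 0 0) * (ι (h 1 1) * ι bi * ι (lam bi)) =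
          (algebraMap B Lc βB) ⊗ₜ[B] (1 : A) := by
        rw [← tmul_algebraMap_eq, hβ]
        simp [hι]
      have e3 : ι (h 0 0) * ι (h 0 0) = (algebraMap B Lc αB) ⊗ₜ[B] (1 : A) := by
        rw [← tmul_algebraMap_eq, hα]
        simp [hι]
      have e4 : ι i2 = (algebraMap B Lc i2B) ⊗ₜ[B] (1 : A) := by
        rw [← tmul_algebraMap_eq, hi2]
        simp [hι]
      rw [e1, e2, e3, e4]
      have := congrArg (Algebra.TensorProduct.includeLeft : Lc →ₐ[B] Lc ⊗[B] A) hν
      simp only [map_add, map_sub, map_mul, map_zero, map_ofNat,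
        Algebra.TensorProduct.includeLeft_apply] at this
      exact this)
  refine ⟨v, ?_, ?_⟩
  · rw [Matrix.isUnit_iff_isUnit_det]
    have hdet := congrArg Matrix.det hv
    rw [Matrix.det_mul, Matrix.det_mul] at hdet
    have hJ : (Jstd : Matrix (Fin 2) (Fin 2) (Lc ⊗[B] A)).det = 1 := by
      simp [Jstd, Matrix.det_fin_two]
    rw [hJ] at hdet
    exact IsUnit.of_mul_eq_one _ (by rw [mul_comm]; exact hdet)
  · have hJ : (Matrix.of ![![(0 : A), 1], ![-1, 0]]).map ι = Jstd := by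
      ext i j
      fin_cases i <;> fin_cases j <;> simp [Jstd]
    rw [hJ, ← hv]
    rfl

end Groth.Agent.Lib.Helper1.SkewStd
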