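import Mathlib
import Groth.Agent.Lib.Helper1.SkewStd.StepC
import Groth.Prelude.Def_W4c2azumayainvolQEt

set_option autoImplicit false
set_option linter.style.haveILetI false

namespace Groth.Agent.Lib.Helper1.SkewStd

open Matrix TensorProduct

universe u v

variable {B : Type u} {A : Type v} [CommRing B] [CommRing A] [Algebra B A]

theorem isUnit_of_sub_one_mem_jacobson {x : A} (hx : x - 1 ∈ Ring.jacobson A) : IsUnit x := by
  rw [← Ideal.jacobson_bot, Ideal.mem_jacobson_bot] at hx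
  have := hx 1
  simpa using this

theorem not_isUnit_of_mem_jacobson [Nontrivial A] {x : B}
    (hx : algebraMap B A x ∈ Ring.jacobson A) : ¬ IsUnit x := by
  intro hu
  have hu' : IsUnit (algebraMap B A x) := hu.map _
  obtain ⟨y, hy⟩ := hu'.exists_right_inv
  rw [← Ideal.jacobson_bot, Ideal.mem_jacobson_bot] at hx
  have := hx (-y)
  rw [mul_neg, hy, neg_add_cancel] at this
  exact not_isUnit_zero this

/-- the ring `B[X,Y]/(X² - s, Y² - t)` -/
abbrev Bsq (s t : B) : Type u :=
  MvPolynomial (Fin 2) B ⧸ Ideal.span ({MvPolynomial.X 0 ^ 2 - MvPolynomial.C s,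
    MvPolynomial.X 1 ^ 2 - MvPolynomial.C t} : Set (MvPolynomial (Fin 2) B))

/-- the class of `X 0` -/
noncomputable def x0 (s t : B) : Bsq s t := Ideal.Quotient.mk _ (MvPolynomial.X 0)

theorem x0_sq (s t : B) : x0 s t ^ 2 = algebraMap B (Bsq s t) s := by
  unfold x0
  rw [← map_pow, IsScalarTower.algebraMap_apply B (MvPolynomial (Fin 2) B) (Bsq s t),
    Ideal.Quotient.algebraMap_eq, MvPolynomial.algebraMap_eq, Ideal.Quotient.eq]
  exact Ideal.subset_span (by simp)

theorem nu_exists {Lc : Type*} [CommRing Lc] (g al be j ρ : Lc)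
    (hρ : ρ * ρ = (2 + be) * (2 + be) - al * g) (hj : 2 * j = 1) (hu : IsUnit (2 + be + ρ)) :
    ∃ ν, g * ν * ν - (2 + be) * ν + al * j * j = 0 := by
  obtain ⟨u, e1⟩ := hu.exists_right_inv
  refine ⟨al * j * u, ?_⟩
  linear_combination (al * j * ((2 + be) * u - j * ((2 + be) + ρ) * u - j)) * e1
    + (al * j * j * u * u) * hρ + (al * j * u * u * ((2 + be) * (2 + be) + (2 + be) * ρ)) * hj

theorem main (lam : A ≃ₐ[B] A) (hlam : ∀ a, lam (lam a) = a)
    (hB : RInv.IsFixedRing B A lam.toRingEquiv) [IsLocalRing B]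
    (h2 : IsUnit (2 : A)) (h : Matrix (Fin 2) (Fin 2) A) (hh : IsUnit h)
    (herm : -(h.map lam).transpose = h)
    (hJ : ∀ i j : Fin 2, h i j - Matrix.of ![![(0 : A), 1], ![-1, 0]] i j ∈ Ring.jacobson A) :
    ∃ (s t : Bˣ) (r : ℕ) (f : Fin r → Bsq (s : B) (t : B)), Ideal.span (Set.range f) = ⊤ ∧
      ∀ i : Fin r, ∃ v : Matrix (Fin 2) (Fin 2) (Localization.Away (f i) ⊗[B] A), IsUnit v ∧
        (v.map (Algebra.TensorProduct.congr (AlgEquiv.refl :
          Localization.Away (f i) ≃ₐ[Localization.Away (f i)] Localization.Away (f i)) lam)).transpose *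
          h.map (Algebra.TensorProduct.includeRight : A →ₐ[B] Localization.Away (f i) ⊗[B] A) * v
          = (Matrix.of ![![(0 : A), 1], ![-1, 0]]).map
            (Algebra.TensorProduct.includeRight : A →ₐ[B] Localization.Away (f i) ⊗[B] A) := by
  obtain ⟨hinj, hfix⟩ := hB
  haveI : Nontrivial A := hinj.nontrivial
  obtain ⟨i2, h2'⟩ := h2.exists_right_inv
  have hbU : IsUnit (h 0 1) := isUnit_of_sub_one_mem_jacobson (by simpa using hJ 0 1)
  obtain ⟨bi, hb⟩ := hbU.exists_right_inv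
  have hDU : IsUnit h.det := (Matrix.isUnit_iff_isUnit_det h).mp hh
  obtain ⟨Di, hD⟩ := hDU.exists_right_inv
  have hent : ∀ i j, lam (h i j) = - h j i := by
    intro i j
    have := congrFun (congrFun herm j) i
    simp only [Matrix.neg_apply, Matrix.transpose_apply, Matrix.map_apply] at this
    rw [← this, neg_neg]
  have ha_jac : h 0 0 ∈ Ring.jacobson A := by simpa using hJ 0 0
  have hd_jac : h 1 1 ∈ Ring.jacobson A := by simpa using hJ 1 1
  obtain ⟨d', hd'⟩ : ∃ d', d' = h 1 1 * bi * lam bi := ⟨_, rfl⟩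
  have hd'_jac : d' ∈ Ring.jacobson A := by
    rw [hd']; exact Ideal.mul_mem_right _ _ (Ideal.mul_mem_right _ _ hd_jac)
  have hla : lam (h 0 0) = - h 0 0 := hent 0 0
  have hld' : lam d' = - d' := by
    rw [hd', map_mul, map_mul, hent 1 1, hlam]; ring
  have hfix' : ∀ r : A, lam r = r → ∃ x : B, algebraMap B A x = r := fun r hr =>
    (hfix r).mp hr
  obtain ⟨αB, hα⟩ := hfix' (h 0 0 * h 0 0) (by rw [map_mul, hla]; ring)
  obtain ⟨βB, hβ⟩ := hfix' (h 0 0 * d') (by rw [map_mul, hla, hld']; ring)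
  obtain ⟨γB, hγ⟩ := hfix' (d' * d') (by rw [map_mul, hld']; ring)
  have hli2 : lam i2 = i2 := by
    have h1 : 2 * lam i2 = 1 := by
      have := congrArg lam h2'
      rw [map_mul, map_one, map_ofNat] at this
      exact this
    linear_combination i2 * h1 - lam i2 * h2'
  obtain ⟨i2B, hi2⟩ := hfix' i2 hli2
  have h2B : 2 * i2B = 1 := hinj (by rw [map_mul, map_ofNat, hi2, h2', map_one])
  have hαm : αB ∈ IsLocalRing.maximalIdeal B := (IsLocalRing.mem_maximalIdeal _).mpr
    (not_isUnit_of_mem_jacobson (A := A) (by rw [hα]; exact Ideal.mul_mem_left _ _ ha_jac))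
  have hβm : βB ∈ IsLocalRing.maximalIdeal B := (IsLocalRing.mem_maximalIdeal _).mpr
    (not_isUnit_of_mem_jacobson (A := A) (by rw [hβ]; exact Ideal.mul_mem_left _ _ hd'_jac))
  have hγm : γB ∈ IsLocalRing.maximalIdeal B := (IsLocalRing.mem_maximalIdeal _).mpr
    (not_isUnit_of_mem_jacobson (A := A) (by rw [hγ]; exact Ideal.mul_mem_left _ _ hd'_jac))
  have h2U : IsUnit (2 : B) := IsUnit.of_mul_eq_one _ h2B
  have hpU : IsUnit (2 + βB) := by
    by_contra hcon
    have hm : 2 + βB ∈ IsLocalRing.maximalIdeal B := (IsLocalRing.mem_maximalIdeal _).mpr hcon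
    have : (2 : B) ∈ IsLocalRing.maximalIdeal B := by
      have := Ideal.sub_mem _ hm hβm
      simpa using this
    exact (IsLocalRing.mem_maximalIdeal _).mp this h2U
  have hΔU : IsUnit ((2 + βB) * (2 + βB) - αB * γB) := by
    by_contra hcon
    have hm : (2 + βB) * (2 + βB) - αB * γB ∈ IsLocalRing.maximalIdeal B :=
      (IsLocalRing.mem_maximalIdeal _).mpr hcon
    have h1 : (2 + βB) * (2 + βB) ∈ IsLocalRing.maximalIdeal B := by
      have := Ideal.add_mem _ hm (Ideal.mul_mem_right γB _ hαm)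
      simpa using this
    exact (IsLocalRing.mem_maximalIdeal _).mp h1 (hpU.mul hpU)
  obtain ⟨s, hs⟩ := hΔU
  -- the per-chart construction
  have chart : ∀ (Lc : Type u) [CommRing Lc] [Algebra B Lc] (ρ : Lc)
      (_ : ρ * ρ = algebraMap B Lc ((2 + βB) * (2 + βB) - αB * γB))
      (_ : IsUnit (algebraMap B Lc (2 + βB) + ρ)),
      ∃ v : Matrix (Fin 2) (Fin 2) (Lc ⊗[B] A), IsUnit v ∧
        (v.map (Algebra.TensorProduct.congr (AlgEquiv.refl : Lc ≃ₐ[Lc] Lc) lam)).transpose *
          h.map (Algebra.TensorProduct.includeRight : A →ₐ[B] Lc ⊗[B] A) * v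
          = (Matrix.of ![![(0 : A), 1], ![-1, 0]]).map
            (Algebra.TensorProduct.includeRight : A →ₐ[B] Lc ⊗[B] A) := by
    intro Lc _ _ ρ hρ hu
    obtain ⟨ν, hν⟩ := nu_exists (Lc := Lc)
      (algebraMap B _ γB) (algebraMap B _ αB) (algebraMap B _ βB) (algebraMap B _ i2B) ρ
      (by rw [hρ]; simp only [map_sub, map_mul, map_add, map_ofNat])
      (by rw [← map_ofNat (algebraMap B Lc) 2, ← map_mul, h2B, map_one])
      (by
        have : (2 : Lc) + algebraMap B Lc βB + ρ = algebraMap B Lc (2 + βB) + ρ := by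
          rw [map_add, map_ofNat]
        rw [this]; exact hu)
    exact step_C lam hlam Lc h herm i2 bi Di h2' hb hD αB βB γB i2B hα
      (by rw [hβ, hd']) (by rw [hγ, hd']) hi2 ν hν
  have hxsq := x0_sq (s : B) ((1 : Bˣ) : B)
  refine ⟨s, 1, 2, ![algebraMap B (Bsq (s : B) ((1 : Bˣ) : B)) (2 + βB) + x0 (s : B) ((1 : Bˣ) : B),
    algebraMap B (Bsq (s : B) ((1 : Bˣ) : B)) (2 + βB) - x0 (s : B) ((1 : Bˣ) : B)], ?_, ?_⟩
  · apply Ideal.eq_top_of_isUnit_mem _ (x := algebraMap B _ (2 * (2 + βB)))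
    · have : algebraMap B (Bsq (s : B) ((1 : Bˣ) : B)) (2 * (2 + βB)) =
          (algebraMap B _ (2 + βB) + x0 _ _) + (algebraMap B _ (2 + βB) - x0 _ _) := by
        rw [map_mul, map_ofNat]; ring
      rw [this]
      apply Ideal.add_mem
      · exact Ideal.subset_span ⟨0, rfl⟩
      · exact Ideal.subset_span ⟨1, rfl⟩
    · exact (h2U.mul hpU).map _
  · intro i
    fin_cases i
    · -- first chart
      obtain ⟨f0, hf0⟩ : ∃ f0 : Bsq (s : B) ((1 : Bˣ) : B), f0 =
        algebraMap B (Bsq (s : B) ((1 : Bˣ) : B)) (2 + βB) + x0 (s : B) ((1 : Bˣ) : B) := ⟨_, rfl⟩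
      have hunit : IsUnit (algebraMap (Bsq (s : B) ((1 : Bˣ) : B)) (Localization.Away f0) f0) :=
        IsLocalization.Away.algebraMap_isUnit f0
      have key := chart (Localization.Away f0)
        (algebraMap (Bsq (s : B) ((1 : Bˣ) : B)) (Localization.Away f0) (x0 (s : B) ((1 : Bˣ) : B)))
        (by rw [← map_mul, ← pow_two, hxsq, ← IsScalarTower.algebraMap_apply]
            exact congrArg _ hs)
        (by
          rw [IsScalarTower.algebraMap_apply B (Bsq (s : B) ((1 : Bˣ) : B)) (Localization.Away f0),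
            ← map_add, ← hf0]
          exact hunit)
      simp only [Fin.zero_eta, Fin.isValue, Matrix.cons_val_zero]
      rw [← hf0]
      exact key
    · -- second chart
      obtain ⟨f1, hf1⟩ : ∃ f1 : Bsq (s : B) ((1 : Bˣ) : B), f1 =
        algebraMap B (Bsq (s : B) ((1 : Bˣ) : B)) (2 + βB) - x0 (s : B) ((1 : Bˣ) : B) := ⟨_, rfl⟩
      have hunit : IsUnit (algebraMap (Bsq (s : B) ((1 : Bˣ) : B)) (Localization.Away f1) f1) :=
        IsLocalization.Away.algebraMap_isUnit f1
      have key := chart (Localization.Away f1)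
        (-algebraMap (Bsq (s : B) ((1 : Bˣ) : B)) (Localization.Away f1) (x0 (s : B) ((1 : Bˣ) : B)))
        (by rw [neg_mul_neg, ← map_mul, ← pow_two, hxsq, ← IsScalarTower.algebraMap_apply]
            exact congrArg _ hs)
        (by
          rw [IsScalarTower.algebraMap_apply B (Bsq (s : B) ((1 : Bˣ) : B)) (Localization.Away f1),
            ← sub_eq_add_neg, ← map_sub, ← hf1]
          exact hunit)
      simp only [Fin.mk_one, Fin.isValue, Matrix.cons_val_one]
      rw [← hf1]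
      exact key

end Groth.Agent.Lib.Helper1.SkewStd
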